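import Mathlib.RingTheory.Polynomial.Resultant.Basic
import Mathlib.GroupTheory.QuotientGroup.Basic
import Mathlib.GroupTheory.Index
import Mathlib.Algebra.BigOperators.Fin
import Mathlib.Data.Fintype.BigOperators
import Mathlib.Tactic.Ring
import Mathlib.Tactic.FieldSimp
import Mathlib.Tactic.LinearCombination

/-!
# Counting a quadratic and a degree `n` binary form without common zero over a finite field
-/

set_option autoImplicit false

universe u v w

open Polynomial

namespace Groth.Agent.Lib.ResCount.Basic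

variable {F : Type u} [Field F] [Fintype F]

/-- The polynomial with given coefficients. -/
noncomputable def P {m : ℕ} (a : Fin m → F) : F[X] := ∑ i : Fin m, C (a i) * X ^ (i : ℕ)

omit [Fintype F] in
theorem coeff_P {m : ℕ} (a : Fin m → F) (i : Fin m) : (P a).coeff i = a i := by
  simp only [P, finsetSum_coeff, coeff_C_mul_X_pow]
  rw [Finset.sum_eq_single i] <;> simp +contextual [Fin.val_inj, eq_comm]

omit [Fintype F] in
theorem natDegree_P {n : ℕ} (a : Fin (n + 1) → F) : (P a).natDegree ≤ n :=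
  natDegree_sum_le_of_forall_le _ _ fun i _ => (natDegree_C_mul_X_pow_le _ _).trans (by omega)

omit [Fintype F] in
theorem P_add {m : ℕ} (a b : Fin m → F) : P (a + b) = P a + P b := by
  simp [P, Finset.sum_add_distrib, add_mul]

omit [Fintype F] in
theorem P_smul {m : ℕ} (r : F) (a : Fin m → F) : P (r • a) = C r * P a := by
  simp [P, Finset.mul_sum, mul_assoc]

omit [Fintype F] in
theorem P_coeff {n : ℕ} {g : F[X]} (hg : g.natDegree ≤ n) : P (fun i : Fin (n + 1) => g.coeff i) = g := by
  refine ext fun k => ?_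
  by_cases hk : k < n + 1
  · exact coeff_P (fun i : Fin (n + 1) => g.coeff i) ⟨k, hk⟩
  · rw [coeff_eq_zero_of_natDegree_lt (lt_of_le_of_lt (natDegree_P _) (by omega)),
      coeff_eq_zero_of_natDegree_lt (lt_of_le_of_lt hg (by omega))]

/-- Preimages under a surjection of finite groups. -/
theorem card_preimage {G : Type v} {H : Type w} [AddCommGroup G] [AddCommGroup H] [Finite G] [Finite H]
    (φ : G →+ H) (hφ : Function.Surjective φ) (S : H → Prop) :
    Nat.card {x // S (φ x)} * Nat.card H = Nat.card G * Nat.card {y // S y} := by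
  have hfib : Nat.card {x // S (φ x)} = Nat.card φ.ker * Nat.card {y // S y} := by
    let σ := Function.surjInv hφ
    have hσ : ∀ y, φ (σ y) = y := Function.surjInv_eq hφ
    rw [← Nat.card_prod]
    refine Nat.card_congr
      { toFun := fun x => (⟨x.1 - σ (φ x.1), by rw [AddMonoidHom.mem_ker, map_sub, hσ, sub_self]⟩, ⟨φ x.1, x.2⟩)
        invFun := fun z => ⟨z.1.1 + σ z.2.1, by rw [map_add, z.1.2, zero_add, hσ]; exact z.2.2⟩
        left_inv := fun x => Subtype.ext (sub_add_cancel _ _)
        right_inv := fun z => ?_ }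
    have h : φ (z.1.1 + σ z.2.1) = z.2.1 := by rw [map_add, z.1.2, zero_add, hσ]
    refine Prod.ext (Subtype.ext ?_) (Subtype.ext h)
    show z.1.1 + σ z.2.1 - σ (φ (z.1.1 + σ z.2.1)) = z.1.1
    rw [h, add_sub_cancel_right]
  have hG : Nat.card G = Nat.card φ.ker * Nat.card H := by
    rw [AddSubgroup.card_eq_card_quotient_mul_card_addSubgroup φ.ker,
      Nat.card_congr (QuotientAddGroup.quotientKerEquivOfSurjective φ hφ).toEquiv, mul_comm]
  rw [hfib, hG]; ring

theorem card_ne_zero' : Nat.card {x : F // x ≠ 0} = Fintype.card F - 1 := by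
  classical
  rw [Nat.card_eq_fintype_card, Fintype.card_subtype_compl, Fintype.card_subtype_eq]

theorem card_fun (m : ℕ) : Nat.card (Fin m → F) = Fintype.card F ^ m := by
  rw [Nat.card_eq_fintype_card, Fintype.card_fun, Fintype.card_fin]

variable (n : ℕ)

/-- Number of partners of a fixed quadratic. -/
noncomputable def num (f : F[X]) : ℕ :=
  Nat.card {g : Fin (n + 1) → F // resultant f (P g) 2 n ≠ 0}

theorem pow_split (hn : 1 ≤ n) : Fintype.card F ^ (n + 1) = Fintype.card F ^ (n - 1) * (Fintype.card F * Fintype.card F) := by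
  rw [← pow_two, ← pow_add]; congr 1; omega

/-- Remainders modulo a monic quadratic. -/
theorem num_monic (hn : 2 ≤ n) {h : F[X]} (hm : h.Monic) (hd : h.natDegree = 2) :
    num n h = Fintype.card F ^ (n - 1) *
      Nat.card {w : F × F // resultant h (C w.1 + C w.2 * X) 2 1 ≠ 0} := by
  have hdeg : ∀ g : F[X], (g %ₘ h).natDegree ≤ 1 := fun g => by
    rcases eq_or_ne h 1 with rfl | h1
    · simp at hd
    · have := natDegree_modByMonic_lt g hm h1; omega
  have hlin : ∀ g : F[X], g %ₘ h = C ((g %ₘ h).coeff 0) + C ((g %ₘ h).coeff 1) * X := fun g => by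
    conv_lhs => rw [eq_X_add_C_of_natDegree_le_one (hdeg g)]
    ring
  let φ : (Fin (n + 1) → F) →+ F × F :=
    { toFun := fun g => ((P g %ₘ h).coeff 0, (P g %ₘ h).coeff 1)
      map_zero' := by simp [P]
      map_add' := fun a b => by simp [P_add, add_modByMonic] }
  have hsur : Function.Surjective φ := fun w => by
    refine ⟨fun i => (C w.1 + C w.2 * X).coeff i, ?_⟩
    have hle : (C w.1 + C w.2 * X : F[X]).natDegree ≤ 1 := by compute_degree
    have hsmall : (C w.1 + C w.2 * X : F[X]) %ₘ h = C w.1 + C w.2 * X := by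
      refine (modByMonic_eq_self_iff hm).mpr ((degree_le_natDegree).trans_lt ?_)
      rw [degree_eq_natDegree hm.ne_zero, hd]
      exact_mod_cast hle.trans_lt one_lt_two
    show ((P _ %ₘ h).coeff 0, (P _ %ₘ h).coeff 1) = w
    rw [P_coeff (hle.trans (by omega)), hsmall]
    simp
  have key : ∀ g, resultant h (P g) 2 n = resultant h (C (φ g).1 + C (φ g).2 * X) 2 1 := by
    intro g
    have hq : (P g /ₘ h).natDegree + 2 ≤ n := by
      rw [natDegree_divByMonic _ hm, hd]
      have := natDegree_P g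
      omega
    obtain ⟨k, hk⟩ : ∃ k, n = 1 + k := ⟨n - 1, by omega⟩
    conv_lhs => rw [← modByMonic_add_div (P g) h, resultant_add_mul_right _ _ _ _ _ hq hd.le, hlin]
    show resultant h (C ((P g %ₘ h).coeff 0) + C ((P g %ₘ h).coeff 1) * X) 2 n =
      resultant h (C ((P g %ₘ h).coeff 0) + C ((P g %ₘ h).coeff 1) * X) 2 1
    subst hk
    rw [resultant_add_right_deg _ _ _ _ _ (by compute_degree),
      show h.coeff 2 = 1 by rw [← hd]; exact hm, one_pow, one_mul]
  have h2 := card_preimage φ hsur (fun w => resultant h (C w.1 + C w.2 * X) 2 1 ≠ 0)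
  rw [Nat.card_prod, Nat.card_eq_fintype_card (α := F), card_fun, pow_split n (by omega)] at h2
  have h3 : num n h = Nat.card {g // resultant h (C (φ g).1 + C (φ g).2 * X) 2 1 ≠ 0} :=
    Nat.card_congr (Equiv.subtypeEquivRight fun g => by rw [key g])
  rw [h3]
  refine Nat.eq_of_mul_eq_mul_right (Nat.mul_pos (Fintype.card_pos (α := F)) (Fintype.card_pos (α := F))) ?_
  rw [h2]; ring

omit [Fintype F] in
theorem res_linear {h : F[X]} (hd : h.natDegree ≤ 2) (hm : h.coeff 2 = 1) (u v : F) :
    resultant h (C u + C v * X) 2 1 ≠ 0 ↔ (v = 0 ∧ u ≠ 0) ∨ (v ≠ 0 ∧ h.eval (-(u / v)) ≠ 0) := by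
  rcases eq_or_ne v 0 with rfl | hv
  · rw [map_zero, zero_mul, add_zero, resultant_C_right]
    simp [hm]
  · rw [show (C u + C v * X : F[X]) = C v * (X + C (u / v)) by
      rw [mul_add, ← C_mul, mul_div_cancel₀ u hv]; ring,
      resultant_C_mul_right, resultant_X_add_C_right _ _ _ hd]
    simp [hv]

/-- The count over all monic quadratics. -/
theorem sum_monic (hn : 2 ≤ n) :
    ∑ s : F × F, num n (X ^ 2 + C s.2 * X + C s.1) =
      Fintype.card F ^ (n - 1) * (Fintype.card F ^ 3 * (Fintype.card F - 1)) := by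
  classical
  have hd : ∀ s : F × F, (X ^ 2 + C s.2 * X + C s.1 : F[X]).natDegree = 2 := fun s => by compute_degree!
  have hmon : ∀ s : F × F, (X ^ 2 + C s.2 * X + C s.1 : F[X]).Monic := fun s => by monicity!
  rw [Finset.sum_congr rfl fun s _ => num_monic n hn (hmon s) (hd s), ← Finset.mul_sum]
  congr 1
  rw [Finset.sum_congr rfl fun s _ => by rw [Nat.card_eq_fintype_card, Fintype.card_subtype, Finset.card_filter],
    Finset.sum_comm]
  have hw : ∀ w : F × F, (∑ s : F × F, if resultant (X ^ 2 + C s.2 * X + C s.1) (C w.1 + C w.2 * X) 2 1 ≠ 0 then 1 else 0) =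
      if w.2 = 0 then (if w.1 = 0 then 0 else Fintype.card F * Fintype.card F)
      else Fintype.card F * (Fintype.card F - 1) := by
    intro w
    have hiff : ∀ s : F × F, (resultant (X ^ 2 + C s.2 * X + C s.1) (C w.1 + C w.2 * X) 2 1 ≠ 0) ↔
        (w.2 = 0 ∧ w.1 ≠ 0) ∨ (w.2 ≠ 0 ∧ (-(w.1 / w.2)) ^ 2 + s.2 * -(w.1 / w.2) + s.1 ≠ 0) := fun s => by
      rw [res_linear (hd s).le (by simp [coeff_X_pow, coeff_C])]; simp
    rw [Finset.sum_congr rfl fun s _ => if_congr (hiff s) rfl rfl, Fintype.sum_prod_type_right]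
    by_cases h2 : w.2 = 0
    · by_cases h1 : w.1 = 0 <;> simp [h2, h1]
    · rw [if_neg h2]
      have : ∀ β : F, (∑ γ : F, if (w.2 = 0 ∧ w.1 ≠ 0) ∨ (w.2 ≠ 0 ∧ (-(w.1 / w.2)) ^ 2 + β * -(w.1 / w.2) + γ ≠ 0)
          then 1 else 0) = Fintype.card F - 1 := fun β => by
        rw [Finset.sum_congr rfl (g := fun γ => if γ ≠ -((-(w.1 / w.2)) ^ 2 + β * -(w.1 / w.2)) then 1 else 0)
          fun γ _ => if_congr (by simp only [h2, false_and, false_or, not_false_eq_true, true_and, ne_eq,
            eq_neg_iff_add_eq_zero, add_comm γ]) rfl rfl]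
        rw [← Finset.card_filter, Finset.filter_ne', Finset.card_erase_of_mem (Finset.mem_univ _), Finset.card_univ]
      rw [Finset.sum_congr rfl fun β _ => this β, Finset.sum_const, Finset.card_univ, smul_eq_mul]
  rw [Finset.sum_congr rfl fun w _ => hw w, Fintype.sum_prod_type_right, ← Finset.add_sum_erase _ _ (Finset.mem_univ (0 : F))]
  simp only [↓reduceIte]
  rw [← Finset.add_sum_erase _ _ (Finset.mem_univ (0 : F))]
  simp only [↓reduceIte, zero_add]
  have hB : ∀ v ∈ Finset.univ.erase (0 : F),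
      (∑ u : F, if v = 0 then (if u = 0 then 0 else Fintype.card F * Fintype.card F) else Fintype.card F * (Fintype.card F - 1)) =
        Fintype.card F * (Fintype.card F * (Fintype.card F - 1)) := fun v hv => by
    simp only [if_neg (Finset.ne_of_mem_erase hv), Finset.sum_const, Finset.card_univ, smul_eq_mul]
  rw [Finset.sum_congr rfl (g := fun _ => Fintype.card F * Fintype.card F) fun u hu => if_neg (Finset.ne_of_mem_erase hu),
    Finset.sum_congr rfl hB]
  simp only [Finset.sum_const, Finset.card_erase_of_mem (Finset.mem_univ (0 : F)), Finset.card_univ, smul_eq_mul]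
  obtain ⟨m, hm⟩ : ∃ m, Fintype.card F = m + 1 := ⟨Fintype.card F - 1, by have := Fintype.card_pos (α := F); omega⟩
  simp only [hm, Nat.add_sub_cancel]
  ring

/-- A linear quadratic form. -/
theorem num_linear (hn : 1 ≤ n) {b c : F} (hb : b ≠ 0) :
    num n (C b * X + C c) = Fintype.card F ^ (n - 1) * ((Fintype.card F - 1) * (Fintype.card F - 1)) := by
  classical
  let r := c / b
  let φ : (Fin (n + 1) → F) →+ F × F :=
    { toFun := fun g => ((P g).coeff n, (P g).eval (-r))
      map_zero' := by simp [P]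
      map_add' := fun a b => by simp [P_add] }
  have hsur : Function.Surjective φ := fun w => by
    refine ⟨fun i => (C (w.2 - w.1 * (-r) ^ n) + C w.1 * X ^ n).coeff i, ?_⟩
    show ((P _).coeff n, (P _).eval (-r)) = w
    rw [P_coeff (by compute_degree)]
    simp [← map_pow, ← map_neg, coeff_C, show n ≠ 0 by omega]
  have key : ∀ g, resultant (C b * X + C c) (P g) 2 n ≠ 0 ↔ (φ g).1 ≠ 0 ∧ (φ g).2 ≠ 0 := fun g => by
    rw [show (C b * X + C c : F[X]) = C b * (X + C r) by
      rw [mul_add, ← C_mul, mul_div_cancel₀ c hb],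
      resultant_succ_left_deg _ _ 1 _ (by compute_degree!), resultant_C_mul_left,
      resultant_X_add_C_left _ _ _ (natDegree_P g)]
    simp [φ, hb]
  have h2 := card_preimage φ hsur (fun w => w.1 ≠ 0 ∧ w.2 ≠ 0)
  rw [Nat.card_prod, Nat.card_eq_fintype_card (α := F), card_fun, pow_split n hn] at h2
  have h3 : Nat.card {w : F × F // w.1 ≠ 0 ∧ w.2 ≠ 0} = (Fintype.card F - 1) * (Fintype.card F - 1) := by
    rw [Nat.card_congr (Equiv.subtypeProdEquivProd (p := fun x : F => x ≠ 0) (q := fun x : F => x ≠ 0)), Nat.card_prod,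
      card_ne_zero']
  rw [h3] at h2
  have h4 : num n (C b * X + C c) = Nat.card {g // (φ g).1 ≠ 0 ∧ (φ g).2 ≠ 0} :=
    Nat.card_congr (Equiv.subtypeEquivRight key)
  rw [h4]
  refine Nat.eq_of_mul_eq_mul_right (Nat.mul_pos (Fintype.card_pos (α := F)) (Fintype.card_pos (α := F))) ?_
  rw [h2]; ring

/-- A constant quadratic form. -/
theorem num_const (hn : 1 ≤ n) (c : F) :
    open Classical in
    num n (C c) = if c = 0 then 0 else Fintype.card F ^ n * (Fintype.card F - 1) := by
  classical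
  have key : ∀ g : Fin (n + 1) → F, resultant (C c) (P g) 2 n ≠ 0 ↔ c ≠ 0 ∧ g (Fin.last n) ≠ 0 := fun g => by
    rw [resultant_C_left, show (P g).coeff n = g (Fin.last n) from coeff_P g (Fin.last n)]
    simp [show n ≠ 0 by omega, and_comm]
  rw [num, Nat.card_congr (Equiv.subtypeEquivRight key)]
  split_ifs with hc
  · simp [hc]
  · have h2 := card_preimage (Pi.evalAddMonoidHom (fun _ : Fin (n + 1) => F) (Fin.last n))
      (fun w => ⟨fun _ => w, rfl⟩) (fun w => w ≠ 0)
    rw [Nat.card_eq_fintype_card (α := F), card_fun, card_ne_zero', pow_succ] at h2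
    rw [Nat.card_congr (Equiv.subtypeEquivRight (q := fun g => g (Fin.last n) ≠ 0) fun g => by simp [hc])]
    refine Nat.eq_of_mul_eq_mul_right (Fintype.card_pos (α := F)) ?_
    refine h2.trans ?_
    ring

theorem num_scale {a : F} (ha : a ≠ 0) (f : F[X]) : num n (C a * f) = num n f :=
  Nat.card_congr (Equiv.subtypeEquivRight fun g => by rw [resultant_C_mul_left]; simp [ha])

/-- The count. -/
theorem card_ne (hn : 2 ≤ n) :
    Nat.card {p : (Fin 3 → F) × (Fin (n + 1) → F) // resultant (P p.1) (P p.2) 2 n ≠ 0} =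
      Fintype.card F ^ (n + 1) * ((Fintype.card F - 1) * (Fintype.card F - 1)) * (Fintype.card F + 1) := by
  classical
  rw [Nat.card_congr (Equiv.subtypeProdEquivSigmaSubtype (fun (f : Fin 3 → F) (g : Fin (n + 1) → F) =>
    resultant (P f) (P g) 2 n ≠ 0)), Nat.card_sigma]
  let E : F × (F × F) ≃ (Fin 3 → F) :=
    { toFun := fun s => ![s.2.1, s.2.2, s.1]
      invFun := fun f => (f 2, f 0, f 1)
      left_inv := fun s => rfl
      right_inv := fun f => by funext i; fin_cases i <;> rfl }
  rw [← E.sum_comp, Fintype.sum_prod_type]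
  have hP : ∀ a c b : F, P (E (a, c, b)) = C a * X ^ 2 + C b * X + C c := fun a c b => by
    show P ![c, b, a] = _
    simp [P, Fin.sum_univ_three]; ring
  rw [← Finset.add_sum_erase _ _ (Finset.mem_univ (0 : F))]
  have h0 : (∑ s : F × F, Nat.card {g : Fin (n + 1) → F // resultant (P (E (0, s))) (P g) 2 n ≠ 0}) =
      (Fintype.card F - 1) * (Fintype.card F ^ n * (Fintype.card F - 1)) + (Fintype.card F - 1) *
        (Fintype.card F * (Fintype.card F ^ (n - 1) * ((Fintype.card F - 1) * (Fintype.card F - 1)))) := by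
    rw [Fintype.sum_prod_type_right, ← Finset.add_sum_erase _ _ (Finset.mem_univ (0 : F))]
    congr 1
    · rw [Finset.sum_congr rfl fun c _ => show Nat.card _ = num n (C c) by rw [num, hP, map_zero, zero_mul, zero_mul, zero_add, zero_add],
        Finset.sum_congr rfl fun c _ => num_const n (by omega) c, ← Finset.add_sum_erase _ _ (Finset.mem_univ (0 : F)),
        if_pos rfl, zero_add, Finset.sum_congr rfl fun c hc => if_neg (Finset.ne_of_mem_erase hc), Finset.sum_const,
        Finset.card_erase_of_mem (Finset.mem_univ _), Finset.card_univ, smul_eq_mul]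
    · rw [Finset.sum_congr rfl fun b hb => Finset.sum_congr rfl fun c _ => show Nat.card _ = _ from
        ((by rw [num, hP, map_zero, zero_mul, zero_add] : Nat.card _ = num n (C b * X + C c))).trans
          (num_linear n (by omega) (Finset.ne_of_mem_erase hb))]
      simp only [Finset.sum_const, Finset.card_erase_of_mem (Finset.mem_univ (0 : F)), Finset.card_univ, smul_eq_mul]
  rw [h0]
  have h1 : ∀ a ∈ (Finset.univ : Finset F).erase 0,
      (∑ s : F × F, Nat.card {g : Fin (n + 1) → F // resultant (P (E (a, s))) (P g) 2 n ≠ 0}) =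
        Fintype.card F ^ (n - 1) * (Fintype.card F ^ 3 * (Fintype.card F - 1)) := by
    intro a ha
    have ha0 : a ≠ 0 := Finset.ne_of_mem_erase ha
    rw [← sum_monic (F := F) n hn]
    refine Fintype.sum_equiv ((Equiv.mulLeft₀ a⁻¹ (inv_ne_zero ha0)).prodCongr (Equiv.mulLeft₀ a⁻¹ (inv_ne_zero ha0))) _ _
      fun s => ?_
    show _ = num n (X ^ 2 + C (a⁻¹ * s.2) * X + C (a⁻¹ * s.1))
    rw [← num_scale n ha0, num, hP]
    have hpoly : C a * (X ^ 2 + C (a⁻¹ * s.2) * X + C (a⁻¹ * s.1)) = C a * X ^ 2 + C s.2 * X + C s.1 := by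
      rw [mul_add, mul_add, ← mul_assoc, ← C_mul, ← C_mul, mul_inv_cancel_left₀ ha0, mul_inv_cancel_left₀ ha0]
    rw [hpoly]
  rw [Finset.sum_congr rfl h1, Finset.sum_const, Finset.card_erase_of_mem (Finset.mem_univ _), Finset.card_univ, smul_eq_mul]
  obtain ⟨k, hk⟩ : ∃ k, n = k + 1 := ⟨n - 1, by omega⟩
  subst hk
  obtain ⟨m, hm⟩ : ∃ m, Fintype.card F = m + 1 := ⟨Fintype.card F - 1, by have := Fintype.card_pos (α := F); omega⟩
  simp only [hm, Nat.add_sub_cancel]
  ring

/-- For odd `n` the resultant is equidistributed on nonzero values. -/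
theorem card_one (hn : Odd n) :
    Nat.card {p : (Fin 3 → F) × (Fin (n + 1) → F) // resultant (P p.1) (P p.2) 2 n = 1} * (Fintype.card F - 1) =
      Nat.card {p : (Fin 3 → F) × (Fin (n + 1) → F) // resultant (P p.1) (P p.2) 2 n ≠ 0} := by
  obtain ⟨k, rfl⟩ := hn
  rw [← card_ne_zero' (F := F), ← Nat.card_prod]
  have hsc : ∀ (c : F), c ≠ 0 → ∀ p : (Fin 3 → F) × (Fin (2 * k + 1 + 1) → F),
      resultant (P (c • p.1)) (P ((c⁻¹) ^ k • p.2)) 2 (2 * k + 1) = c * resultant (P p.1) (P p.2) 2 (2 * k + 1) := by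
    intro c hc p
    rw [P_smul, P_smul, resultant_C_mul_left, resultant_C_mul_right, pow_succ, pow_mul', inv_pow, inv_pow]
    field_simp
  refine Nat.card_congr
    { toFun := fun z => ⟨(z.2.1 • z.1.1.1, (z.2.1)⁻¹ ^ k • z.1.1.2), by rw [hsc _ z.2.2, z.1.2, mul_one]; exact z.2.2⟩
      invFun := fun p => (⟨((resultant (P p.1.1) (P p.1.2) 2 (2 * k + 1))⁻¹ • p.1.1,
          ((resultant (P p.1.1) (P p.1.2) 2 (2 * k + 1))⁻¹)⁻¹ ^ k • p.1.2), by
            rw [hsc _ (inv_ne_zero p.2), inv_mul_cancel₀ p.2]⟩, ⟨_, p.2⟩)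
      left_inv := fun z => ?_
      right_inv := fun p => ?_ }
  · have hr : resultant (P (z.2.1 • z.1.1.1)) (P ((z.2.1)⁻¹ ^ k • z.1.1.2)) 2 (2 * k + 1) = z.2.1 := by
      rw [hsc _ z.2.2, z.1.2, mul_one]
    refine Prod.ext (Subtype.ext ?_) (Subtype.ext hr)
    simp only [hr, inv_inv, smul_smul, inv_mul_cancel₀ z.2.2, ← mul_pow, mul_inv_cancel₀ z.2.2, one_pow, one_smul]
  · refine Subtype.ext ?_
    simp only [inv_inv, smul_smul, mul_inv_cancel₀ p.2, ← mul_pow, inv_mul_cancel₀ p.2, one_pow, one_smul]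

end Groth.Agent.Lib.ResCount.Basic
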